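import Groth.Agent.ArtFunLib.Hull.Prorep
import Mathlib.RingTheory.Ideal.Cotangent
import Mathlib.RingTheory.MvPolynomial.Ideal
import Mathlib.Algebra.MvPolynomial.PDeriv
import Mathlib.LinearAlgebra.Matrix.NonsingularInverse
import Mathlib.RingTheory.TensorProduct.Finite

/-! Lifting of tangent directions forces smoothness in characteristic zero. -/

set_option autoImplicit false
set_option linter.style.haveILetI false
set_option backward.isDefEq.respectTransparency false
set_option backward.isDefEq.respectTransparency.types false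

universe u v

open CategoryTheory ArtFun ArtFun.Art IsLocalRing

namespace Groth.Agent.H9T1

variable {k : Type u} [Field k]

/-- Every derivation into `k` lifts to every Artinian quotient. -/
def DerLift (R : Type u) [CommRing R] [Algebra k R] (res : R →ₐ[k] k) : Prop :=
  ∀ (A : Art k k) (φ : HomSet R res A) (δ : R →ₗ[k] k),
    (∀ a b, δ (a * b) = res a * δ b + res b * δ a) →
    ∃ D : R →ₗ[k] A, (∀ a b, D (a * b) = φ.1 a * D b + φ.1 b * D a) ∧ ∀ r, A.res (D r) = δ r

section dual

variable (A : Art k k)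

theorem isLocalRing_dual : IsLocalRing (DualNumber (A : Type u)) := by
  refine IsLocalRing.of_isUnit_or_isUnit_one_sub_self fun a => ?_
  rw [TrivSqZeroExt.isUnit_iff_isUnit_fst, TrivSqZeroExt.isUnit_iff_isUnit_fst, TrivSqZeroExt.fst_sub,
    TrivSqZeroExt.fst_one]
  exact IsLocalRing.isUnit_or_isUnit_one_sub_self _

theorem isArtinianRing_dual : IsArtinianRing (DualNumber (A : Type u)) :=
  haveI : Module.Finite (A : Type u) (DualNumber (A : Type u)) :=
    inferInstanceAs (Module.Finite (A : Type u) (Prod (A : Type u) (A : Type u)))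
  IsArtinianRing.of_finite (A : Type u) _

/-- The split extension `A[ε]`. -/
noncomputable def dualOver : Art k k :=
  haveI := isLocalRing_dual A
  haveI := isArtinianRing_dual A
  Art.of (DualNumber (A : Type u)) (A.res.comp (TrivSqZeroExt.fstHom k (A : Type u) (A : Type u)))
    fun c => by obtain ⟨a, ha⟩ := A.res_surjective c; exact ⟨TrivSqZeroExt.inl a, ha⟩

/-- `ε · m`. -/
def epsMax : Ideal (DualNumber (A : Type u)) where
  carrier := {x | TrivSqZeroExt.fst x = 0 ∧ A.res (TrivSqZeroExt.snd x) = 0}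
  add_mem' := fun {x y} hx hy => ⟨by simp [hx.1, hy.1], by simp [hx.2, hy.2]⟩
  zero_mem' := ⟨by simp, by simp⟩
  smul_mem' := fun c x hx => by
    refine ⟨by simp [hx.1], ?_⟩
    show A.res (TrivSqZeroExt.snd (c * x)) = 0
    simp [TrivSqZeroExt.snd_mul, hx.1, hx.2]

theorem fst_eq_zero_of_mem {x : DualNumber (A : Type u)} (hx : x ∈ epsMax A) :
    TrivSqZeroExt.fst x = 0 := hx.1

/-- The split extension `A ⊕ k`. -/
noncomputable def splitRes : Art k k :=
  haveI := isLocalRing_dual A
  haveI := isArtinianRing_dual A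
  haveI : Nontrivial (DualNumber (A : Type u) ⧸ epsMax A) := Ideal.Quotient.nontrivial_iff.2 fun h => by
    have := fst_eq_zero_of_mem A (h ▸ Submodule.mem_top : (1 : DualNumber (A : Type u)) ∈ epsMax A)
    simp at this
  haveI := IsLocalRing.of_surjective' (Ideal.Quotient.mk (epsMax A)) Ideal.Quotient.mk_surjective
  haveI : IsArtinianRing (DualNumber (A : Type u) ⧸ epsMax A) :=
    Function.Surjective.isArtinianRing (f := Ideal.Quotient.mk (epsMax A)) Ideal.Quotient.mk_surjective
  Art.of (DualNumber (A : Type u) ⧸ epsMax A)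
    (A.res.comp (Ideal.Quotient.liftₐ (epsMax A) (TrivSqZeroExt.fstHom k (A : Type u) (A : Type u))
      fun _ hx => fst_eq_zero_of_mem A hx))
    fun c => by obtain ⟨a, ha⟩ := A.res_surjective c; exact ⟨Ideal.Quotient.mk _ (TrivSqZeroExt.inl a), ha⟩

/-- The projection of `A[ε]`. -/
noncomputable def dualPr : dualOver A ⟶ A :=
  Art.homMk (TrivSqZeroExt.fstHom k (A : Type u) (A : Type u)) rfl

/-- The projection of `A ⊕ k`. -/
noncomputable def splitPr : splitRes A ⟶ A :=
  Art.homMk (Ideal.Quotient.liftₐ (epsMax A) (TrivSqZeroExt.fstHom k (A : Type u) (A : Type u))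
    fun _ hx => fst_eq_zero_of_mem A hx) rfl

/-- `A[ε] → A ⊕ k`. -/
noncomputable def redEps : dualOver A ⟶ splitRes A :=
  Art.homMk (Ideal.Quotient.mkₐ k (epsMax A)) rfl

/-- The section of `A[ε]`. -/
noncomputable def dualSec : A ⟶ dualOver A :=
  Art.homMk (TrivSqZeroExt.inlAlgHom k (A : Type u) (A : Type u)) (AlgHom.ext fun _ => rfl)

theorem ker_dualPr_sq : RingHom.ker (dualPr A).toAlgHom * RingHom.ker (dualPr A).toAlgHom = ⊥ := by
  refine le_bot_iff.1 (Ideal.mul_le.2 fun x hx y hy => ?_)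
  have hx' : TrivSqZeroExt.fst (x : DualNumber (A : Type u)) = 0 := hx
  have hy' : TrivSqZeroExt.fst (y : DualNumber (A : Type u)) = 0 := hy
  exact Ideal.mem_bot.2 (TrivSqZeroExt.ext
    ((TrivSqZeroExt.fst_mul _ _).trans (by simp [hx'])) ((TrivSqZeroExt.snd_mul _ _).trans (by simp [hx', hy'])))

theorem ker_splitPr_sq : RingHom.ker (splitPr A).toAlgHom * RingHom.ker (splitPr A).toAlgHom = ⊥ := by
  refine le_bot_iff.1 (Ideal.mul_le.2 fun x hx y hy => ?_)
  obtain ⟨x, rfl⟩ := Ideal.Quotient.mk_surjective (I := epsMax A) x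
  obtain ⟨y, rfl⟩ := Ideal.Quotient.mk_surjective (I := epsMax A) y
  have hx' : TrivSqZeroExt.fst x = 0 := hx
  have hy' : TrivSqZeroExt.fst y = 0 := hy
  refine Ideal.mem_bot.2 ((map_mul (Ideal.Quotient.mk (epsMax A)) x y).symm.trans ?_)
  rw [Ideal.Quotient.eq_zero_iff_mem]
  exact ⟨by simp [hx'], by simp [TrivSqZeroExt.snd_mul, hx', hy']⟩

theorem redEps_surjective : Function.Surjective (redEps A).toAlgHom := Ideal.Quotient.mk_surjective

end dual

/-- The lifting property of a pro-represented functor. -/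
theorem derLift_of_universal {F : Art k k ⥤ Type v} {R : Type u} [CommRing R] [Algebra k R]
    {res : R →ₐ[k] k} {ξ : Family R res F} (hu : IsUniversal ξ)
    (hT1 : ∀ ⦃A A' A'' : ArtFun.Art k k⦄ (π' : A' ⟶ A) (i' : A ⟶ A') (π'' : A'' ⟶ A) (i'' : A ⟶ A'')
        (q : A'' ⟶ A'), i' ≫ π' = 𝟙 A → i'' ≫ π'' = 𝟙 A →
        RingHom.ker π'.toAlgHom * RingHom.ker π'.toAlgHom = ⊥ →
        RingHom.ker π''.toAlgHom * RingHom.ker π''.toAlgHom = ⊥ →
        q ≫ π' = π'' → i'' ≫ q = i' → Function.Surjective q → Function.Surjective (F.map q)) :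
    DerLift R res := by
  intro A φ δ hδ
  have hres : ∀ r, A.res (φ.1 r) = res r := fun r => AlgHom.congr_fun φ.2 r
  have hδ1 : δ 1 = 0 := by simpa using hδ 1 1
  let g : R → DualNumber (A : Type u) ⧸ epsMax A := fun r =>
    Ideal.Quotient.mk (epsMax A) (TrivSqZeroExt.inl (φ.1 r) + TrivSqZeroExt.inr (algebraMap k A (δ r)))
  let φ₀ : R →ₐ[k] DualNumber (A : Type u) ⧸ epsMax A :=
    { toFun := g
      map_one' := by simp [g, hδ1]
      map_zero' := by simp [g]
      map_add' := fun a b => by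
        simp only [g, ← map_add]
        congr 1
        refine TrivSqZeroExt.ext ?_ ?_ <;> simp [Algebra.algebraMap_eq_smul_one, add_smul]
      map_mul' := fun a b => by
        simp only [g, ← map_mul]
        rw [Ideal.Quotient.eq]
        refine ⟨by simp, ?_⟩
        simp [TrivSqZeroExt.snd_mul, hres, hδ, mul_comm (δ a)]
        ring
      commutes' := fun c => by
        have hc : δ (algebraMap k R c) = 0 := by
          rw [Algebra.algebraMap_eq_smul_one, map_smul, hδ1, smul_zero]
        simp [g, hc]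
        rfl }
  let Φ : HomSet R res (splitRes A) := ⟨φ₀, AlgHom.ext fun r => by
    show A.res (TrivSqZeroExt.fst (TrivSqZeroExt.inl (φ.1 r) + TrivSqZeroExt.inr (algebraMap k A (δ r)))) = res r
    simp [hres]⟩
  obtain ⟨y, hy⟩ := hT1 (splitPr A) (dualSec A ≫ redEps A) (dualPr A) (dualSec A) (redEps A)
    (Art.hom_ext (AlgHom.ext fun _ => rfl)) (Art.hom_ext (AlgHom.ext fun _ => rfl)) (ker_splitPr_sq A)
    (ker_dualPr_sq A) (Art.hom_ext (AlgHom.ext fun _ => rfl)) rfl (redEps_surjective A) (ξ.app _ Φ)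
  obtain ⟨ψ, rfl⟩ := (hu _).2 y
  have hψ : HomSet.map (redEps A) ψ = Φ := (hu _).1 (by rw [ξ.natural]; exact hy)
  let ψ' : R →ₐ[k] DualNumber (A : Type u) := ψ.1
  have heq : ∀ r, Ideal.Quotient.mk (epsMax A) (ψ' r) =
      Ideal.Quotient.mk (epsMax A) (TrivSqZeroExt.inl (φ.1 r) + TrivSqZeroExt.inr (algebraMap k A (δ r))) :=
    fun r => DFunLike.congr_fun (congrArg Subtype.val hψ) r
  have hfst : ∀ r, TrivSqZeroExt.fst (ψ' r) = φ.1 r := fun r => by
    have h := (Ideal.Quotient.eq.1 (heq r)).1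
    simpa [sub_eq_zero] using h
  refine ⟨{ toFun := fun r => TrivSqZeroExt.snd (ψ' r), map_add' := fun a b => by simp,
            map_smul' := fun c a => by simp }, fun a b => ?_, fun r => ?_⟩
  · show TrivSqZeroExt.snd (ψ' (a * b)) = _
    rw [map_mul, TrivSqZeroExt.snd_mul, hfst, hfst]
    simp [mul_comm]
  · have h := (Ideal.Quotient.eq.1 (heq r)).2
    simpa [sub_eq_zero] using h

end Groth.Agent.H9T1
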