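import Groth.Agent.H9T1.Lift

/-! Smoothness from lifting derivations, in characteristic zero. -/

set_option autoImplicit false
set_option linter.style.haveILetI false
set_option backward.isDefEq.respectTransparency false
set_option backward.isDefEq.respectTransparency.types false

universe u v

open CategoryTheory ArtFun ArtFun.Art IsLocalRing

namespace Groth.Agent.H9T1

variable {k : Type u} [Field k]
variable {R : Type u} [CommRing R] [IsLocalRing R] [Algebra k R] (res : R →ₐ[k] k)

theorem mem_maximalIdeal_iff_res (hres : Function.Surjective res) (r : R) :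
    r ∈ maximalIdeal R ↔ res r = 0 := by
  have hmax : (RingHom.ker (res : R →+* k)).IsMaximal :=
    RingHom.ker_isMaximal_of_surjective (res : R →+* k) hres
  rw [← IsLocalRing.eq_maximalIdeal hmax, RingHom.mem_ker]
  rfl

theorem res_surjective : Function.Surjective res := fun c => ⟨algebraMap k R c, by simp⟩

theorem sub_res_mem (r : R) : r - algebraMap k R (res r) ∈ maximalIdeal R := by
  rw [mem_maximalIdeal_iff_res res (res_surjective res)]
  simp

/-- Generators of the maximal ideal with dual derivations into `k`. -/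
theorem exists_coords [IsNoetherianRing R] :
    ∃ (n : ℕ) (x : Fin n → R) (δ : Fin n → (R →ₗ[k] k)), Ideal.span (Set.range x) = maximalIdeal R ∧
      (∀ i a b, δ i (a * b) = res a * δ i b + res b * δ i a) ∧ ∀ i j, δ i (x j) = if i = j then 1 else 0 := by
  classical
  let b := Module.finBasis (ResidueField R) (CotangentSpace R)
  choose x hx using fun j => (maximalIdeal R).toCotangent_surjective (b j)
  let ρ : ResidueField R →+* k := Ideal.Quotient.lift (maximalIdeal R) (res : R →+* k)
    fun a ha => (mem_maximalIdeal_iff_res res (res_surjective res) a).1 ha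
  have hρ : ∀ a, ρ (residue R a) = res a := fun a => rfl
  let P : R → maximalIdeal R := fun r => ⟨r - algebraMap k R (res r), sub_res_mem res r⟩
  let θ : maximalIdeal R → Fin (Module.finrank (ResidueField R) (CotangentSpace R)) → k := fun y i =>
    ρ (b.repr ((maximalIdeal R).toCotangent y) i)
  have hθadd : ∀ y z, θ (y + z) = θ y + θ z := fun y z => by funext i; simp [θ]
  have hθsmul : ∀ (r : R) y, θ (r • y) = res r • θ y := fun r y => by
    funext i
    have : (maximalIdeal R).toCotangent (r • y) = residue R r • (maximalIdeal R).toCotangent y := by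
      rw [map_smul, ← IsLocalRing.ResidueField.algebraMap_eq, algebraMap_smul]
    simp [θ, this, hρ]
  have hθmul : ∀ y z : maximalIdeal R, θ ⟨y.1 * z.1, Ideal.mul_mem_left _ _ z.2⟩ = 0 := fun y z => by
    funext i
    have : (maximalIdeal R).toCotangent ⟨y.1 * z.1, Ideal.mul_mem_left _ _ z.2⟩ = 0 :=
      (Ideal.toCotangent_eq_zero _ _).2 (by rw [pow_two]; exact Ideal.mul_mem_mul y.2 z.2)
    simp [θ, this]
  let δ : Fin (Module.finrank (ResidueField R) (CotangentSpace R)) → (R →ₗ[k] k) := fun i =>
    { toFun := fun r => θ (P r) i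
      map_add' := fun r s => by
        rw [show P (r + s) = P r + P s from Subtype.ext (by simp [P]; ring), hθadd]; rfl
      map_smul' := fun c r => by
        rw [show P (c • r) = algebraMap k R c • P r from Subtype.ext (by simp [P, Algebra.smul_def]; ring), hθsmul]
        simp }
  refine ⟨_, fun j => (x j).1, δ, ?_, fun i a a' => ?_, fun i j => ?_⟩
  · have hspan : Submodule.span R (Set.range x) = ⊤ := by
      refine CotangentSpace.span_image_eq_top_iff.1 ?_
      rw [← Set.range_comp, show (maximalIdeal R).toCotangent ∘ x = b from funext hx]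
      exact b.span_eq
    have := congrArg (Submodule.map (maximalIdeal R).subtype) hspan
    rwa [Submodule.map_span, ← Set.range_comp, Submodule.map_top, Submodule.range_subtype] at this
  · show θ (P (a * a')) i = res a * θ (P a') i + res a' * θ (P a) i
    have : P (a * a') = ⟨(P a).1 * (P a').1, Ideal.mul_mem_left _ _ (P a').2⟩ +
        (algebraMap k R (res a) • P a' + algebraMap k R (res a') • P a) := Subtype.ext (by
      simp [P, Algebra.smul_def]; ring)
    rw [this, hθadd, hθmul, hθadd, hθsmul, hθsmul]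
    simp
  · show θ (P (x j).1) i = _
    have : P (x j).1 = x j := Subtype.ext (by
      simp [P, (mem_maximalIdeal_iff_res res (res_surjective res) _).1 (x j).2])
    rw [this]
    simp [θ, hx, Finsupp.single_apply, eq_comm, apply_ite ρ]

/-- `R/m^N` as an object. -/
noncomputable def quotArt [IsNoetherianRing R] (N : ℕ) : Art k k :=
  haveI : Nontrivial (R ⧸ maximalIdeal R ^ (N + 1)) := Ideal.Quotient.nontrivial_iff.2 fun h =>
    (maximalIdeal.isMaximal R).ne_top (top_le_iff.1 (h ▸ Ideal.pow_le_self (Nat.succ_ne_zero N)))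
  haveI := IsLocalRing.of_surjective' (Ideal.Quotient.mk (maximalIdeal R ^ (N + 1))) Ideal.Quotient.mk_surjective
  haveI : IsArtinianRing (R ⧸ maximalIdeal R ^ (N + 1)) := by
    rw [isArtinianRing_iff_isNilpotent_maximalIdeal]
    refine ⟨N + 1, ?_⟩
    rw [← IsLocalRing.map_maximalIdeal_of_surjective _ Ideal.Quotient.mk_surjective, ← Ideal.map_pow,
      Ideal.map_quotient_self]
    rfl
  Art.of (R ⧸ maximalIdeal R ^ (N + 1))
    (Ideal.Quotient.liftₐ _ res fun a ha =>
      (mem_maximalIdeal_iff_res res (res_surjective res) a).1 (Ideal.pow_le_self (Nat.succ_ne_zero N) ha))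
    fun c => ⟨algebraMap k _ c, by simp⟩

/-- Polynomials in the generators detect the powers of the maximal ideal. -/
theorem mem_pow_of_aeval_mem [CharZero k] [IsNoetherianRing R] (hd : DerLift R res) {n : ℕ} (x : Fin n → R)
    (δ : Fin n → (R →ₗ[k] k)) (hxm : ∀ j, x j ∈ maximalIdeal R)
    (hδ : ∀ i a b, δ i (a * b) = res a * δ i b + res b * δ i a)
    (hδx : ∀ i j, δ i (x j) = if i = j then 1 else 0) :
    ∀ (N : ℕ) (f : MvPolynomial (Fin n) k), MvPolynomial.aeval x f ∈ maximalIdeal R ^ N →
      f ∈ MvPolynomial.idealOfVars (Fin n) k ^ N := by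
  classical
  intro N
  induction N with
  | zero => intro f _; simp
  | succ N ih =>
    intro f hf
    rcases Nat.eq_zero_or_pos N with rfl | hN
    · rw [MvPolynomial.mem_pow_idealOfVars_iff']
      intro μ hμ
      have hμ0 : μ = 0 := Finsupp.degree_eq_zero_iff _ |>.1 (Nat.lt_one_iff.1 hμ)
      subst hμ0
      rw [pow_one, mem_maximalIdeal_iff_res res (res_surjective res)] at hf
      rw [← MvPolynomial.constantCoeff_eq]
      have : res.comp (MvPolynomial.aeval x) = MvPolynomial.aeval (0 : Fin n → k) :=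
        MvPolynomial.algHom_ext fun j => by
          simp [(mem_maximalIdeal_iff_res res (res_surjective res) _).1 (hxm j)]
      have h0 : MvPolynomial.aeval (0 : Fin n → k) f = 0 := (AlgHom.congr_fun this f).symm.trans hf
      rw [MvPolynomial.aeval_zero] at h0
      simpa using h0
    let A := quotArt res N (R := R)
    let mk : R →ₐ[k] A := Ideal.Quotient.mkₐ k (maximalIdeal R ^ (N + 1))
    let φ : HomSet R res A := ⟨mk, AlgHom.ext fun r => rfl⟩
    choose D hD hDδ using fun i => hd A φ (δ i) (hδ i)
    let M : Ideal A := (maximalIdeal R).map (mk : R →+* A)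
    have hMpow : ∀ l : ℕ, ∀ r ∈ maximalIdeal R ^ (l + 1), ∀ i, D i r ∈ M ^ l := by
      intro l
      induction l with
      | zero => intro r _ i; simp
      | succ l ihl =>
        intro r hr i
        rw [pow_succ] at hr
        induction hr using Submodule.mul_induction_on' with
        | mem_mul_mem a ha b hb =>
          rw [hD]
          refine add_mem ?_ ?_
          · have : φ.1 a ∈ M ^ (l + 1) := by rw [← Ideal.map_pow]; exact Ideal.mem_map_of_mem _ ha
            exact Ideal.mul_mem_right _ _ this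
          · rw [pow_succ']
            exact Ideal.mul_mem_mul (Ideal.mem_map_of_mem (mk : R →+* A) hb) (ihl a ha i)
        | add a _ b _ ha hb => rw [map_add]; exact add_mem ha hb
    have hD1 : ∀ i, D i 1 = 0 := fun i => by simpa using hD i 1 1
    have hDpoly : ∀ (g : MvPolynomial (Fin n) k) i, D i (MvPolynomial.aeval x g) =
        ∑ j, mk (MvPolynomial.aeval x (MvPolynomial.pderiv j g)) * D i (x j) := by
      intro g i
      induction g using MvPolynomial.induction_on with
      | C c => simp [Algebra.algebraMap_eq_smul_one, hD1]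
      | add g g' hg hg' =>
        rw [map_add, map_add, hg, hg', ← Finset.sum_add_distrib]
        exact Finset.sum_congr rfl fun j _ => by simp [add_mul]
      | mul_X g l hg =>
        rw [map_mul, MvPolynomial.aeval_X, hD, hg, Finset.mul_sum]
        show mk (MvPolynomial.aeval x g) * D i (x l) + ∑ j, mk (x l) * _ = _
        simp only [MvPolynomial.pderiv_mul, MvPolynomial.pderiv_X, map_add, map_mul, MvPolynomial.aeval_X, add_mul,
          Finset.sum_add_distrib]
        rw [add_comm]
        congr 1
        · exact Finset.sum_congr rfl fun j _ => by ring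
        · rw [Finset.sum_eq_single l] <;> simp +contextual [Pi.single_apply, eq_comm]
    let C : Matrix (Fin n) (Fin n) A := Matrix.of fun i j => D i (x j)
    have hC : C.map A.res = 1 := by
      ext i j
      simp [C, hDδ, hδx, Matrix.one_apply]
    have hdet : IsUnit C.det := by
      by_contra h
      have h0 : A.res C.det = 0 := (Art.mem_maximalIdeal_iff A _).1 ((IsLocalRing.mem_maximalIdeal _).2 h)
      rw [AlgHom.map_det, AlgHom.mapMatrix_apply, hC, Matrix.det_one] at h0
      exact one_ne_zero h0
    have hf0 : mk (MvPolynomial.aeval x f) = 0 := Ideal.Quotient.eq_zero_iff_mem.2 hf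
    have hpart : ∀ j, MvPolynomial.pderiv j f ∈ MvPolynomial.idealOfVars (Fin n) k ^ N := by
      intro j
      refine ih _ ?_
      let v : Fin n → A := fun j => mk (MvPolynomial.aeval x (MvPolynomial.pderiv j f))
      have hv : ∀ i, (C.mulVec v) i ∈ M ^ N := fun i => by
        have := hMpow N _ hf i
        rw [hDpoly] at this
        refine (congrArg (· ∈ M ^ N) ?_).mp this
        simp [C, v, Matrix.mulVec, dotProduct, mul_comm]
      have hvj : v j ∈ M ^ N := by
        have e : v = C⁻¹.mulVec (C.mulVec v) := by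
          rw [Matrix.mulVec_mulVec, Matrix.nonsing_inv_mul _ hdet, Matrix.one_mulVec]
        rw [e]
        show ∑ i, C⁻¹ j i * (C.mulVec v) i ∈ M ^ N
        exact Ideal.sum_mem _ fun i _ => Ideal.mul_mem_left _ _ (hv i)
      rw [← Ideal.map_pow] at hvj
      obtain ⟨s, hs, hsv⟩ := (Ideal.mem_map_iff_of_surjective (mk : R →+* A) Ideal.Quotient.mk_surjective).1 hvj
      have := Ideal.Quotient.eq.1 hsv
      rw [show MvPolynomial.aeval x (MvPolynomial.pderiv j f) = s - (s - MvPolynomial.aeval x (MvPolynomial.pderiv j f)) by ring]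
      exact sub_mem hs (Ideal.pow_le_pow_right (Nat.le_succ N) this)
    have hfN := ih f (Ideal.pow_le_pow_right (Nat.le_succ N) hf)
    rw [MvPolynomial.mem_pow_idealOfVars_iff'] at hfN ⊢
    intro μ hμ
    rcases Nat.lt_succ_iff_lt_or_eq.1 hμ with h | h
    · exact hfN μ h
    obtain ⟨j, hj⟩ : ∃ j, μ j ≠ 0 := by
      by_contra hc
      push Not at hc
      rw [show μ = 0 from Finsupp.ext hc, map_zero] at h
      omega
    have hle : Finsupp.single j 1 ≤ μ := Finsupp.single_le_iff.2 (Nat.one_le_iff_ne_zero.2 hj)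
    obtain ⟨μ', rfl⟩ : ∃ μ', μ = μ' + Finsupp.single j 1 := ⟨μ - Finsupp.single j 1, (tsub_add_cancel_of_le hle).symm⟩
    have h' := (MvPolynomial.mem_pow_idealOfVars_iff' N _).1 (hpart j) μ' (by
      rw [map_add, Finsupp.degree_single] at h
      omega)
    rw [MvPolynomial.coeff_pderiv] at h'
    exact (mul_eq_zero.1 h').resolve_right (by exact_mod_cast Nat.succ_ne_zero (μ' j))

include res in
/-- Polynomials in generators of the maximal ideal are dense. -/
theorem exists_aeval_sub_mem {n : ℕ} (x : Fin n → R) (hx : Ideal.span (Set.range x) = maximalIdeal R) :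
    ∀ (N : ℕ) (r : R), ∃ f : MvPolynomial (Fin n) k, r - MvPolynomial.aeval x f ∈ maximalIdeal R ^ N := by
  have hI : ∀ l : ℕ, maximalIdeal R ^ l =
      (MvPolynomial.idealOfVars (Fin n) k ^ l).map (MvPolynomial.aeval x : _ →ₐ[k] R).toRingHom := fun l => by
    rw [Ideal.map_pow, MvPolynomial.idealOfVars, Ideal.map_span, ← Set.range_comp, ← hx]
    congr 3
    funext j
    simp
  intro N
  induction N with
  | zero => intro r; exact ⟨0, by simp⟩
  | succ N ih =>
    intro r
    obtain ⟨f, hf⟩ := ih r
    suffices h : ∀ s ∈ maximalIdeal R ^ N, ∃ g, s - MvPolynomial.aeval x g ∈ maximalIdeal R ^ (N + 1) by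
      obtain ⟨g, hg⟩ := h _ hf
      exact ⟨f + g, by rw [map_add, ← sub_sub]; exact hg⟩
    intro s hs
    suffices h : ∃ g, s - MvPolynomial.aeval x g ∈ maximalIdeal R ^ (N + 1) ∧ s ∈ maximalIdeal R ^ N by
      obtain ⟨g, hg, -⟩ := h; exact ⟨g, hg⟩
    rw [hI N] at hs
    induction hs using Submodule.span_induction with
    | mem s hs =>
      obtain ⟨g, hg, rfl⟩ := hs
      exact ⟨g, by simp, by rw [hI N]; exact Ideal.mem_map_of_mem _ hg⟩
    | zero => exact ⟨0, by simp, zero_mem _⟩
    | add a b _ _ ha hb =>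
      obtain ⟨g, hg, hga⟩ := ha
      obtain ⟨g', hg', hgb⟩ := hb
      exact ⟨g + g', by rw [map_add, add_sub_add_comm]; exact add_mem hg hg', add_mem hga hgb⟩
    | smul t a _ ha =>
      obtain ⟨g, hg, hga⟩ := ha
      refine ⟨MvPolynomial.C (res t) * g, ?_, Ideal.mul_mem_left _ _ hga⟩
      rw [map_mul, MvPolynomial.aeval_C, smul_eq_mul,
        show t * a - algebraMap k R (res t) * MvPolynomial.aeval x g =
          (t - algebraMap k R (res t)) * a + algebraMap k R (res t) * (a - MvPolynomial.aeval x g) by ring]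
      refine add_mem ?_ (Ideal.mul_mem_left _ _ hg)
      rw [pow_succ']
      exact Ideal.mul_mem_mul (sub_res_mem res t) hga

theorem hom_lift [CharZero k] [IsNoetherianRing R] (hd : DerLift R res) {B A : Art k k} (μ : B ⟶ A)
    (hμ : Function.Surjective μ.toAlgHom) (φ : HomSet R res A) : ∃ ψ : HomSet R res B, HomSet.map μ ψ = φ := by
  classical
  obtain ⟨n, x, δ, hx, hδ, hδx⟩ := exists_coords res
  have hxm : ∀ j, x j ∈ maximalIdeal R := fun j => hx ▸ Ideal.subset_span ⟨j, rfl⟩
  have hφm : ∀ r ∈ maximalIdeal R, φ.1 r ∈ maximalIdeal A := fun r hr => by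
    rw [Art.mem_maximalIdeal_iff]
    exact (AlgHom.congr_fun φ.2 r).trans ((mem_maximalIdeal_iff_res res (res_surjective res) r).1 hr)
  choose y hy using fun j => hμ (φ.1 (x j))
  have hym : ∀ j, y j ∈ maximalIdeal B := fun j => by
    rw [Art.mem_maximalIdeal_iff, ← Art.res_app μ, ← Art.mem_maximalIdeal_iff]
    show μ.toAlgHom (y j) ∈ _
    rw [hy]
    exact hφm _ (hxm j)
  obtain ⟨N, hN⟩ := (isArtinianRing_iff_isNilpotent_maximalIdeal (B : Type u)).1 inferInstance
  obtain ⟨N', hN'⟩ := (isArtinianRing_iff_isNilpotent_maximalIdeal (A : Type u)).1 inferInstance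
  let L := N + N' + 1
  have hBL : maximalIdeal (B : Type u) ^ L = ⊥ := le_bot_iff.1 ((Ideal.pow_le_pow_right (show N ≤ L by omega)).trans hN.le)
  have hAL : maximalIdeal (A : Type u) ^ L = ⊥ := le_bot_iff.1 ((Ideal.pow_le_pow_right (show N' ≤ L by omega)).trans hN'.le)
  let e : MvPolynomial (Fin n) k →ₐ[k] B := MvPolynomial.aeval y
  have he : ∀ f ∈ MvPolynomial.idealOfVars (Fin n) k ^ L, e f = 0 := fun f hf => by
    have h1 : (MvPolynomial.idealOfVars (Fin n) k).map e.toRingHom ≤ maximalIdeal B := by
      rw [MvPolynomial.idealOfVars, Ideal.map_span, Ideal.span_le]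
      rintro _ ⟨_, ⟨j, rfl⟩, rfl⟩
      simpa [e] using hym j
    have := Ideal.pow_right_mono h1 L
    rw [← Ideal.map_pow, hBL] at this
    exact this (Ideal.mem_map_of_mem _ hf)
  choose pf hpf using exists_aeval_sub_mem res x hx L
  have hdiff : ∀ f g, MvPolynomial.aeval x f - MvPolynomial.aeval x g ∈ maximalIdeal R ^ L → e f = e g := fun f g h => by
    rw [← sub_eq_zero, ← map_sub]
    exact he _ (mem_pow_of_aeval_mem res hd x δ hxm hδ hδx L _ (by rw [map_sub]; exact h))
  have hval : ∀ r f, r - MvPolynomial.aeval x f ∈ maximalIdeal R ^ L → e (pf r) = e f := fun r f h => by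
    refine hdiff _ _ ?_
    rw [show MvPolynomial.aeval x (pf r) - MvPolynomial.aeval x f =
      (r - MvPolynomial.aeval x f) - (r - MvPolynomial.aeval x (pf r)) by ring]
    exact sub_mem h (hpf r)
  let ψ : R →ₐ[k] B :=
    { toFun := fun r => e (pf r)
      map_one' := by rw [hval 1 1 (by simp), map_one]
      map_zero' := by rw [hval 0 0 (by simp), map_zero]
      map_mul' := fun a b => by
        rw [hval (a * b) (pf a * pf b) ?_, map_mul]
        rw [map_mul, show a * b - MvPolynomial.aeval x (pf a) * MvPolynomial.aeval x (pf b) =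
          (a - MvPolynomial.aeval x (pf a)) * b + MvPolynomial.aeval x (pf a) * (b - MvPolynomial.aeval x (pf b)) by ring]
        exact add_mem (Ideal.mul_mem_right _ _ (hpf a)) (Ideal.mul_mem_left _ _ (hpf b))
      map_add' := fun a b => by
        rw [hval (a + b) (pf a + pf b) ?_, map_add]
        rw [map_add, add_sub_add_comm]
        exact add_mem (hpf a) (hpf b)
      commutes' := fun c => by
        rw [hval _ (MvPolynomial.C c) (by simp)]
        simp [e] }
  have hcomp : ∀ r, μ.toAlgHom (ψ r) = φ.1 r := fun r => by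
    show μ.toAlgHom (e (pf r)) = _
    have h1 : μ.toAlgHom.comp e = φ.1.comp (MvPolynomial.aeval x) :=
      MvPolynomial.algHom_ext fun j => by simp [e, hy]
    refine (AlgHom.congr_fun h1 (pf r)).trans ?_
    refine (sub_eq_zero.1 ?_).symm
    show φ.1 r - φ.1 (MvPolynomial.aeval x (pf r)) = 0
    rw [← map_sub]
    have h2 : (maximalIdeal R).map φ.1.toRingHom ≤ maximalIdeal A := Ideal.map_le_iff_le_comap.2 hφm
    have := Ideal.pow_right_mono h2 L
    rw [← Ideal.map_pow, hAL] at this
    exact this (Ideal.mem_map_of_mem _ (hpf r))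
  refine ⟨⟨ψ, AlgHom.ext fun r => ?_⟩, Subtype.ext (AlgHom.ext hcomp)⟩
  show B.res (ψ r) = res r
  rw [← Art.res_app μ]
  show A.res (μ.toAlgHom (ψ r)) = _
  rw [hcomp]
  exact AlgHom.congr_fun φ.2 r

theorem main {k : Type u} [Field k] [CharZero k]
    (F : Art k k ⥤ Type v) [TangentStr F] (h0 : H0 F)
    (hRS : (∀ ⦃B A A' A'' : Art k k⦄ (p' : B ⟶ A') (p'' : B ⟶ A'') (f' : A' ⟶ A) (f'' : A'' ⟶ A)
        (h : IsFibreProd p' p'' f' f''), Function.Surjective f'' → Function.Bijective (cmp F h)))
    (hfin : Hfin F)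
    (hT1 : ∀ ⦃A A' A'' : ArtFun.Art k k⦄ (π' : A' ⟶ A) (i' : A ⟶ A') (π'' : A'' ⟶ A) (i'' : A ⟶ A'')
        (q : A'' ⟶ A'), i' ≫ π' = 𝟙 A → i'' ≫ π'' = 𝟙 A →
        RingHom.ker π'.toAlgHom * RingHom.ker π'.toAlgHom = ⊥ →
        RingHom.ker π''.toAlgHom * RingHom.ker π''.toAlgHom = ⊥ →
        q ≫ π' = π'' → i'' ≫ q = i' → Function.Surjective q → Function.Surjective (F.map q)) :
    IsSmoothFunctor F := by
  obtain ⟨P⟩ := (ArtFunLib.Hull.isProrepresentable_iff (Λ := k) (fun c => ⟨c, rfl⟩) h0).2
    ⟨fun _ _ _ _ p' p'' f' f'' h hs => (hRS p' p'' f' f'' h hs.1).2,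
      fun _ _ p' p'' h => hRS p' p'' _ _ h (dual k k).res_surjective, hfin,
      fun _ _ _ p₁ p₂ f h hs => hRS p₁ p₂ f f h hs.1⟩
  intro B A μ hμ y
  obtain ⟨φ, rfl⟩ := (P.universal A).2 y
  obtain ⟨ψ, hψ⟩ := hom_lift P.ring.res (derLift_of_universal P.universal hT1) μ hμ φ
  exact ⟨P.family.app B ψ, by rw [← P.family.natural, hψ]⟩

end Groth.Agent.H9T1
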